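import Groth.Agent.H98P1.Facts
import Groth.Prelude.Def_W4c5nonratstablectREq

set_option autoImplicit false
universe u

open AlgebraicGeometry CategoryTheory CategoryTheory.Limits

namespace Groth.Agent.H98P1

variable {k : Type u} [Field k]

/-- Affine `n`-space over `k`. -/
noncomputable abbrev AN (k : Type u) [Field k] (n : ℕ) : Scheme.{u} :=
  Spec (CommRingCat.of (MvPolynomial (Fin n) k))

/-- The structure morphism of affine `n`-space. -/
noncomputable abbrev ANStr (k : Type u) [Field k] (n : ℕ) : AN k n ⟶ Spec (CommRingCat.of k) :=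
  Spec.map (CommRingCat.ofHom (algebraMap k (MvPolynomial (Fin n) k)))

/-- Evaluation at an element as a point of the affine line. -/
noncomputable abbrev linePt (K : Type u) [Field K] (t : K) :
    Spec (CommRingCat.of K) ⟶ Spec (CommRingCat.of (Polynomial K)) :=
  Spec.map (CommRingCat.ofHom (Polynomial.evalRingHom t))

lemma linePt_C (K : Type u) [Field K] (t : K) :
    linePt K t ≫ Spec.map (CommRingCat.ofHom (Polynomial.C : K →+* Polynomial K)) = 𝟙 _ := by
  rw [linePt, ← Spec.map_comp, ← CommRingCat.ofHom_comp,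
    show (Polynomial.evalRingHom t).comp Polynomial.C = RingHom.id K by ext; simp]
  exact Spec.map_id _

/-- Two `K`-points of an open of affine space are directly linked. -/
lemma exists_line {n : ℕ} (V : (AN k n).Opens) (K : Type u) [Field K] [Algebra k K]
    (P Q : Spec (CommRingCat.of K) ⟶ (V : Scheme.{u}))
    (hP : P ≫ V.ι ≫ ANStr k n = REq.specMap k K) (hQ : Q ≫ V.ι ≫ ANStr k n = REq.specMap k K) :
    ∃ (U : (REq.P1K K).Opens) (h : (U : Scheme.{u}) ⟶ (V : Scheme.{u}))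
      (a b : Spec (CommRingCat.of K) ⟶ (U : Scheme.{u})),
      h ≫ V.ι ≫ ANStr k n = U.ι ≫ REq.P1K.toSpec K ≫ REq.specMap k K ∧
      a ≫ U.ι ≫ REq.P1K.toSpec K = 𝟙 _ ∧ b ≫ U.ι ≫ REq.P1K.toSpec K = 𝟙 _ ∧
      a ≫ h = P ∧ b ≫ h = Q := by
  let x := (Spec.preimage (P ≫ V.ι)).hom
  let y := (Spec.preimage (Q ≫ V.ι)).hom
  have hx : P ≫ V.ι = Spec.map (CommRingCat.ofHom x) := (Spec.map_preimage _).symm
  have hy : Q ≫ V.ι = Spec.map (CommRingCat.ofHom y) := (Spec.map_preimage _).symm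
  have hxC : x.comp (algebraMap k (MvPolynomial (Fin n) k)) = algebraMap k K := by
    have := hP
    rw [← Category.assoc, hx, ← Spec.map_comp, ← CommRingCat.ofHom_comp] at this
    exact congrArg CommRingCat.Hom.hom (Spec.map_injective this)
  have hyC : y.comp (algebraMap k (MvPolynomial (Fin n) k)) = algebraMap k K := by
    have := hQ
    rw [← Category.assoc, hy, ← Spec.map_comp, ← CommRingCat.ofHom_comp] at this
    exact congrArg CommRingCat.Hom.hom (Spec.map_injective this)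
  let g : MvPolynomial (Fin n) k →+* Polynomial K := MvPolynomial.eval₂Hom
    (Polynomial.C.comp (algebraMap k K))
    (fun i => Polynomial.C (x (MvPolynomial.X i)) +
      Polynomial.X * (Polynomial.C (y (MvPolynomial.X i)) - Polynomial.C (x (MvPolynomial.X i))))
  have hg0 : (Polynomial.evalRingHom 0).comp g = x := by
    refine MvPolynomial.ringHom_ext (fun r => ?_) (fun i => ?_)
    · simpa [g] using (RingHom.congr_fun hxC r).symm
    · simp [g]
  have hg1 : (Polynomial.evalRingHom 1).comp g = y := by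
    refine MvPolynomial.ringHom_ext (fun r => ?_) (fun i => ?_)
    · simpa [g] using (RingHom.congr_fun hyC r).symm
    · simp [g]
  let L : Spec (CommRingCat.of (Polynomial K)) ⟶ AN k n := Spec.map (CommRingCat.ofHom g)
  have hL : L ≫ ANStr k n =
      Spec.map (CommRingCat.ofHom (Polynomial.C : K →+* Polynomial K)) ≫ REq.specMap k K := by
    rw [← Spec.map_comp, ← Spec.map_comp, ← CommRingCat.ofHom_comp, ← CommRingCat.ofHom_comp]
    congr 2
    ext r
    simp [g]
  have hL0 : linePt K 0 ≫ L = P ≫ V.ι := by rw [hx, ← Spec.map_comp, ← CommRingCat.ofHom_comp, hg0]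
  have hL1 : linePt K 1 ≫ L = Q ≫ V.ι := by rw [hy, ← Spec.map_comp, ← CommRingCat.ofHom_comp, hg1]
  let W := L ⁻¹ᵁ V
  let c : W.toScheme ⟶ REq.P1K K := W.ι ≫ chart K 0
  let e : W.toScheme ≅ c.opensRange.toScheme := c.isoOpensRange
  have he : e.hom ≫ c.opensRange.ι = c := c.isoOpensRange_hom_ι
  have hc : c ≫ REq.P1K.toSpec K = W.ι ≫ Spec.map (CommRingCat.ofHom (Polynomial.C : K →+* Polynomial K)) := by
    rw [Category.assoc]
    exact congrArg (W.ι ≫ ·) (chart_toBase K 0)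
  have hlift : ∀ (t : K) (R : Spec (CommRingCat.of K) ⟶ (V : Scheme.{u})),
      linePt K t ≫ L = R ≫ V.ι → ∃ s : Spec (CommRingCat.of K) ⟶ W.toScheme,
        s ≫ W.ι = linePt K t ∧ s ≫ L.resLE V W le_rfl = R := by
    intro t R ht
    have hr : Set.range (linePt K t) ⊆ Set.range W.ι := by
      rintro _ ⟨z, rfl⟩
      rw [Scheme.Opens.range_ι]
      show L (linePt K t z) ∈ V
      rw [← Scheme.Hom.comp_apply, ht, Scheme.Hom.comp_apply]
      exact (R z).2
    refine ⟨IsOpenImmersion.lift W.ι (linePt K t) hr, IsOpenImmersion.lift_fac _ _ _, ?_⟩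
    rw [← cancel_mono V.ι, Category.assoc, Scheme.Hom.resLE_comp_ι,
      IsOpenImmersion.lift_fac_assoc, ht]
  obtain ⟨s0, hs0, hs0'⟩ := hlift 0 P hL0
  obtain ⟨s1, hs1, hs1'⟩ := hlift 1 Q hL1
  refine ⟨c.opensRange, e.inv ≫ L.resLE V W le_rfl, s0 ≫ e.hom, s1 ≫ e.hom, ?_, ?_, ?_, ?_, ?_⟩
  · rw [← cancel_epi e.hom]
    simp only [Category.assoc, Iso.hom_inv_id_assoc, Scheme.Hom.resLE_comp_ι_assoc, reassoc_of% he]
    rw [reassoc_of% hc, hL]
  · rw [Category.assoc, reassoc_of% he, hc, reassoc_of% hs0, linePt_C]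
  · rw [Category.assoc, reassoc_of% he, hc, reassoc_of% hs1, linePt_C]
  · rw [Category.assoc, Iso.hom_inv_id_assoc, hs0']
  · rw [Category.assoc, Iso.hom_inv_id_assoc, hs1']

variable {X : Scheme.{u}} (f : X ⟶ Spec (CommRingCat.of k))

theorem exists_open_forall_elemLink (hX : REq.IsRetractRational f) :
    ∃ U : X.Opens, (U : Set X).Nonempty ∧
      ∀ (K : Type u) [Field K] [Algebra k K] (A B : REq.Pts (U.ι ≫ f) K),
        REq.ElemLink (U.ι ≫ f) K A B := by
  obtain ⟨U, n, V, a, b, hne, hab, ha, hb⟩ := hX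
  refine ⟨U, hne, fun K _ _ A B => ?_⟩
  have hA : (A.1 ≫ a) ≫ V.ι ≫ ANStr k n = REq.specMap k K := by rw [Category.assoc, ha, A.2]
  have hB : (B.1 ≫ a) ≫ V.ι ≫ ANStr k n = REq.specMap k K := by rw [Category.assoc, ha, B.2]
  obtain ⟨U', h, s, t, h1, h2, h3, h4, h5⟩ := exists_line V K _ _ hA hB
  refine ⟨U', h ≫ b, s, t, ?_, h2, h3, ?_, ?_⟩
  · rw [Category.assoc, hb, h1]
  · rw [reassoc_of% h4, hab, Category.comp_id]
  · rw [reassoc_of% h5, hab, Category.comp_id]

theorem isAlmostRTrivial [Infinite k] [IsIntegral X] (hX : REq.IsRetractRational f) :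
    REq.IsAlmostRTrivial f := by
  obtain ⟨U, n, V, a, b, hne, hab, ha, hb⟩ := id hX
  obtain ⟨U₁, hne₁, hlink⟩ := exists_open_forall_elemLink f hX
  -- a rational point of `U ⊓ U₁`
  obtain ⟨z, hzU, hzU₁⟩ := nonempty_preirreducible_inter U.2 U₁.2 hne hne₁
  let V' : (AN k n).Opens := V.ι ''ᵁ (b ⁻¹ᵁ (U.ι ⁻¹ᵁ U₁))
  have hmem : a ⟨z, hzU⟩ ∈ b ⁻¹ᵁ (U.ι ⁻¹ᵁ U₁) := by
    show U.ι (b (a ⟨z, hzU⟩)) ∈ U₁
    rw [← Scheme.Hom.comp_apply a b, hab]
    exact hzU₁
  obtain ⟨_, ⟨_, ⟨g, rfl⟩, rfl⟩, hg, hgV⟩ := PrimeSpectrum.isBasis_basic_opens.exists_subset_of_mem_open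
    (show V.ι (a ⟨z, hzU⟩) ∈ (V' : Set (AN k n)) from ⟨_, hmem, rfl⟩) V'.2
  have hg0 : g ≠ 0 := by
    rintro rfl
    exact hg (zero_mem _)
  obtain ⟨v, hv⟩ : ∃ v : Fin n → k, MvPolynomial.eval v g ≠ 0 := by
    by_contra hcon
    push Not at hcon
    exact hg0 (MvPolynomial.funext (fun v => by rw [hcon v, map_zero]))
  refine ⟨U₁, U₁.2.dense hne₁, fun K _ _ => ⟨?_, ?_⟩⟩
  · let φ : MvPolynomial (Fin n) k →+* K := (algebraMap k K).comp (MvPolynomial.eval v)
    let pt : Spec (CommRingCat.of K) ⟶ AN k n := Spec.map (CommRingCat.ofHom φ)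
    have hpt : ∀ w : Spec (CommRingCat.of K), pt w ∈ V' := by
      intro w
      refine hgV ?_
      show g ∉ Ideal.comap φ w.asIdeal
      rw [(Ideal.eq_bot_or_top w.asIdeal).resolve_right w.2.ne_top, ← RingHom.ker_eq_comap_bot,
        RingHom.mem_ker]
      exact fun h0 => hv ((map_eq_zero_iff _ (algebraMap k K).injective).mp h0)
    have hr : Set.range pt ⊆ Set.range V.ι := by
      rintro _ ⟨w, rfl⟩
      obtain ⟨v', -, hv'⟩ := hpt w
      exact ⟨v', hv'⟩
    let q := IsOpenImmersion.lift V.ι pt hr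
    have hq : q ≫ V.ι = pt := IsOpenImmersion.lift_fac _ _ _
    refine ⟨⟨q ≫ b ≫ U.ι, ?_⟩, ?_⟩
    · rw [Category.assoc, Category.assoc, hb, reassoc_of% hq, ← Spec.map_comp, ← CommRingCat.ofHom_comp]
      congr 2
      ext r
      simp [φ]
    · rintro _ ⟨w, rfl⟩
      obtain ⟨v', hv', hv''⟩ := hpt w
      have : q w = v' := V.ι.isOpenEmbedding.injective (by
        rw [← Scheme.Hom.comp_apply, hq]; exact hv''.symm)
      show U.ι (b (q w)) ∈ U₁
      rw [this]
      exact hv'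
  · intro P Q hP hQ
    have hP' : Set.range P.1 ⊆ Set.range U₁.ι := by rw [Scheme.Opens.range_ι]; exact hP
    have hQ' : Set.range Q.1 ⊆ Set.range U₁.ι := by rw [Scheme.Opens.range_ι]; exact hQ
    have eP : IsOpenImmersion.lift U₁.ι P.1 hP' ≫ U₁.ι = P.1 := IsOpenImmersion.lift_fac _ _ _
    have eQ : IsOpenImmersion.lift U₁.ι Q.1 hQ' ≫ U₁.ι = Q.1 := IsOpenImmersion.lift_fac _ _ _
    obtain ⟨W, h, s, t, h1, h2, h3, h4, h5⟩ := hlink K
      ⟨IsOpenImmersion.lift U₁.ι P.1 hP', by rw [reassoc_of% eP]; exact P.2⟩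
      ⟨IsOpenImmersion.lift U₁.ι Q.1 hQ', by rw [reassoc_of% eQ]; exact Q.2⟩
    refine Relation.EqvGen.rel _ _ ⟨W, h ≫ U₁.ι, s, t, ?_, h2, h3, ?_, ?_⟩
    · rw [Category.assoc]; exact h1
    · rw [reassoc_of% h4, eP]
    · rw [reassoc_of% h5, eQ]

theorem not_rEquiv {K : Type u} [Field K] [Algebra k K]
    (V W : Set X) (hV : IsClosed V) (hW : IsClosed W) (hVW : V ∪ W = Set.univ)
    (hT : ∀ z : REq.Pts f K, ¬ (Set.range z.1.base ⊆ V ∩ W))
    (p q : REq.Pts f K) (hp : Set.range p.1.base ⊆ V) (hq : Set.range q.1.base ⊆ W) :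
    ¬ REq.REquiv f K p q := by
  intro hpq
  have : Nonempty (Spec (CommRingCat.of K)) := inferInstance
  have : IsIntegral (REq.P1K K) := isIntegral K
  have key : ∀ A B : REq.Pts f K, REq.REquiv f K A B →
      ((Set.range A.1.base ⊆ V) ↔ (Set.range B.1.base ⊆ V)) := by
    intro A B hAB
    induction hAB with
    | refl A => exact Iff.rfl
    | symm A B _ ih => exact ih.symm
    | trans A B C _ _ ih ih' => exact ih.trans ih'
    | rel A B h =>
      obtain ⟨U, g, a, b, -, -, -, haA, hbB⟩ := h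
      have hirr : PreirreducibleSpace U :=
        Subtype.preirreducibleSpace
          ((PreirreducibleSpace.isPreirreducible_univ (X := REq.P1K K)).open_subset U.2 (Set.subset_univ _))
      have hcov : (Set.univ : Set U) ⊆ g.base ⁻¹' V ∪ g.base ⁻¹' W := by
        rw [← Set.preimage_union, hVW, Set.preimage_univ]
      rcases isPreirreducible_iff_isClosed_union_isClosed.mp hirr.isPreirreducible_univ _ _
          (hV.preimage g.continuous) (hW.preimage g.continuous) hcov with h' | h'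
      · constructor <;> intro _ <;> [rw [← hbB]; rw [← haA]] <;>
          rintro _ ⟨z, rfl⟩ <;> exact h' (Set.mem_univ _)
      · constructor <;> intro h''
        · refine absurd ?_ (hT A)
          rintro _ ⟨z, rfl⟩
          refine ⟨h'' ⟨z, rfl⟩, ?_⟩
          rw [← haA]; exact h' (Set.mem_univ _)
        · refine absurd ?_ (hT B)
          rintro _ ⟨z, rfl⟩
          refine ⟨h'' ⟨z, rfl⟩, ?_⟩
          rw [← hbB]; exact h' (Set.mem_univ _)
  exact hT q (Set.subset_inter ((key p q hpq).mp hp) hq)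

end Groth.Agent.H98P1
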