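import Groth.Agent.H98P1.Link
import Groth.Prelude.Def_W4c5nonratstablectREq

set_option autoImplicit false
universe u v

open AlgebraicGeometry CategoryTheory CategoryTheory.Limits

namespace Groth.Agent.H98P1

variable {k : Type u} [Field k]

theorem range_eq_range (Φ : (Over (Spec (CommRingCat.of k)))ᵒᵖ ⥤ Type v)
    (hΦ : ∀ (Y : Scheme.{u}) (g : Y ⟶ Spec (CommRingCat.of k)) [IsIntegral Y] [Smooth g]
      [IsSeparated g] [QuasiCompact g],
      Function.Bijective (Φ.map (Over.homMk (CohB1.ProjSpaceOver.toBase 1 Y) rfl :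
        Over.mk (CohB1.ProjSpaceOver.toBase 1 Y ≫ g) ⟶ Over.mk g).op))
    {X : Scheme.{u}} (f : X ⟶ Spec (CommRingCat.of k)) [IsIntegral X] [IsProper f]
    (hsm : ∃ V : X.Opens, (V : Set X).Nonempty ∧ Smooth (V.ι ≫ f))
    (hR : REq.IsAlmostRTrivial f) :
    ∃ U : X.Opens, (U : Set X).Nonempty ∧ Smooth (U.ι ≫ f) ∧
      Set.range (Φ.map (Over.homMk U.ι rfl : Over.mk (U.ι ≫ f) ⟶ Over.mk f).op) =
        Set.range (Φ.map (Over.homMk (U.ι ≫ f) (Category.comp_id _) :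
          Over.mk (U.ι ≫ f) ⟶ Over.mk (𝟙 (Spec (CommRingCat.of k)))).op) := by
  obtain ⟨V, hVne, hVsm⟩ := hsm
  obtain ⟨U₀, hU₀, hR⟩ := hR
  obtain ⟨x, hxV, hxU⟩ := hU₀.inter_open_nonempty (V : Set X) V.2 hVne
  obtain ⟨V', hV', hxV', hsub⟩ :=
    exists_isAffineOpen_mem_and_subset (U := V ⊓ U₀) (x := x) ⟨hxV, hxU⟩
  have : Nonempty V' := ⟨⟨x, hxV'⟩⟩
  -- affine chart
  let A : Type u := Γ(X, V')
  let ιV : Spec (CommRingCat.of A) ⟶ X := hV'.fromSpec
  have hrange : Set.range ιV = (V' : Set X) := hV'.range_fromSpec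
  let sA : Spec (CommRingCat.of A) ⟶ Spec (CommRingCat.of k) := ιV ≫ f
  have : Smooth sA := by
    have hr : Set.range ιV ⊆ Set.range V.ι := by
      rw [hrange, Scheme.Opens.range_ι]; exact fun z hz => (hsub hz).1
    have e : IsOpenImmersion.lift V.ι ιV hr ≫ V.ι = ιV := IsOpenImmersion.lift_fac _ _ _
    have : IsOpenImmersion (IsOpenImmersion.lift V.ι ιV hr) := by
      have : IsOpenImmersion (IsOpenImmersion.lift V.ι ιV hr ≫ V.ι) := by rw [e]; infer_instance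
      exact IsOpenImmersion.of_comp _ V.ι
    have e2 : sA = IsOpenImmersion.lift V.ι ιV hr ≫ V.ι ≫ f := by rw [reassoc_of% e]
    rw [e2]
    infer_instance
  let K : Type u := FractionRing A
  let : Algebra k K := ((algebraMap A K).comp (Spec.preimage sA).hom).toAlgebra
  have hspec : REq.specMap k K = gK A ≫ sA := by
    conv_rhs => rw [← Spec.map_preimage sA, ← Spec.map_comp]
    rfl
  obtain ⟨⟨A₀, hA₀⟩, -⟩ := hR k
  have hk : REq.specMap k k = 𝟙 _ := by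
    show Spec.map (CommRingCat.ofHom (algebraMap k k)) = _
    rw [Algebra.algebraMap_self]
    exact Spec.map_id _
  let Pη : REq.Pts f K := ⟨gK A ≫ ιV, by rw [Category.assoc, hspec]⟩
  let Pc : REq.Pts f K := ⟨gK A ≫ sA ≫ A₀.1, by
    rw [Category.assoc, Category.assoc, A₀.2, hk, Category.comp_id, hspec]⟩
  have hη : REq.InOpen f U₀ Pη := by
    rintro _ ⟨z, rfl⟩
    have : (gK A ≫ ιV) z ∈ (V' : Set X) := by
      rw [← hrange, Scheme.Hom.comp_apply]; exact Set.mem_range_self _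
    exact (hsub this).2
  have hc : REq.InOpen f U₀ Pc := by
    rintro _ ⟨z, rfl⟩
    exact hA₀ ⟨(gK A ≫ sA) z, rfl⟩
  have hreq := (hR K).2 Pη Pc hη hc
  have key : ∀ P Q : REq.Pts f K, REq.REquiv f K P Q → Rel f Φ sA P.1 Q.1 := by
    intro P Q hPQ
    induction hPQ with
    | rel P Q h =>
      obtain ⟨U, g, a, b, hg, ha, hb, haP, hbQ⟩ := h
      rw [← haP, ← hbQ]
      exact rel_of_link f Φ hΦ sA U g a b (by rw [hg, hspec]) ha hb
    | refl P => exact Rel.refl (by rw [P.2, hspec])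
    | symm P Q _ ih => exact ih.symm
    | trans P Q R _ _ ih ih' => exact ih.trans ih'
  obtain ⟨W, g', p, q, hp, hq, hg', hp', hq', hpq⟩ := key _ _ hreq
  have hp'' : p = W.ι ≫ ιV := eq_of_comp_eq f sA hg' hp (by rw [Category.assoc])
    (by rw [hp', reassoc_of% hg'])
  have hq'' : q = W.ι ≫ sA ≫ A₀.1 := eq_of_comp_eq f sA hg' hq
    (by rw [Category.assoc, Category.assoc, A₀.2, hk, Category.comp_id])
    (by rw [hq', reassoc_of% hg'])
  subst hp'' hq''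
  let Uf : X.Opens := (W.ι ≫ ιV).opensRange
  let e : W.toScheme ≅ Uf.toScheme := (W.ι ≫ ιV).isoOpensRange
  have he : e.hom ≫ Uf.ι = W.ι ≫ ιV := (W.ι ≫ ιV).isoOpensRange_hom_ι
  have he' : Uf.ι = e.inv ≫ W.ι ≫ ιV := by rw [← he, Iso.inv_hom_id_assoc]
  have hUsm : Smooth (Uf.ι ≫ f) := by
    rw [he', Category.assoc, Category.assoc]
    infer_instance
  have hne : (Uf : Set X).Nonempty := by
    obtain ⟨z⟩ : Nonempty (Spec (CommRingCat.of K)) := inferInstance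
    exact ⟨_, (e.hom (g' z)).2⟩
  refine ⟨Uf, hne, hUsm, ?_⟩
  let pt : Over.mk (𝟙 (Spec (CommRingCat.of k))) ⟶ Over.mk f := Over.homMk A₀.1 (A₀.2.trans hk)
  let E : Over.mk (Uf.ι ≫ f) ⟶ Over.mk (W.ι ≫ sA) := Over.homMk e.inv (by
    show e.inv ≫ W.ι ≫ ιV ≫ f = Uf.ι ≫ f
    rw [he', Category.assoc, Category.assoc])
  let st : Over.mk (Uf.ι ≫ f) ⟶ Over.mk (𝟙 (Spec (CommRingCat.of k))) :=
    Over.homMk (Uf.ι ≫ f) (Category.comp_id _)
  let strW : Over.mk (W.ι ≫ sA) ⟶ Over.mk (𝟙 (Spec (CommRingCat.of k))) :=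
    Over.homMk (W.ι ≫ sA) (Category.comp_id _)
  let rs : Over.mk (Uf.ι ≫ f) ⟶ Over.mk f := Over.homMk Uf.ι rfl
  have h1 : rs = E ≫ (Over.homMk (W.ι ≫ ιV) hp : Over.mk (W.ι ≫ sA) ⟶ Over.mk f) := by
    ext; exact he'
  have h2 : (Over.homMk (W.ι ≫ sA ≫ A₀.1) hq : Over.mk (W.ι ≫ sA) ⟶ Over.mk f) = strW ≫ pt := by
    ext; simp [strW, pt]
  have h3 : E ≫ strW = st := by
    ext
    show e.inv ≫ W.ι ≫ ιV ≫ f = Uf.ι ≫ f
    rw [he', Category.assoc, Category.assoc]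
  have main : Φ.map rs.op = Φ.map pt.op ≫ Φ.map st.op := by
    rw [h1, op_comp, Functor.map_comp, hpq, h2, ← Functor.map_comp, ← op_comp, ← Category.assoc, h3,
      op_comp, Functor.map_comp]
  have triv : rs ≫ (Over.homMk f (Category.comp_id _) : Over.mk f ⟶ Over.mk (𝟙 (Spec (CommRingCat.of k)))) = st := by
    ext; rfl
  show Set.range (Φ.map rs.op) = Set.range (Φ.map st.op)
  apply le_antisymm
  · rintro _ ⟨x, rfl⟩
    exact ⟨Φ.map pt.op x, (congrArg (fun m => m x) main).symm⟩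
  · rintro _ ⟨c, rfl⟩
    refine ⟨Φ.map (Over.homMk f (Category.comp_id _) : Over.mk f ⟶ Over.mk (𝟙 (Spec (CommRingCat.of k)))).op c, ?_⟩
    rw [← triv, op_comp, Functor.map_comp]
    rfl

end Groth.Agent.H98P1
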