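import Mathlib
import Groth.Prelude.Def_P1
import Groth.Agent.S9576

set_option autoImplicit false
universe u

open AlgebraicGeometry CategoryTheory CategoryTheory.Limits Polynomial

/-!
# Affine charts of `P^1` over an affine base
-/

namespace Groth.Agent.H98P1

/-- The unique ring map from the lifted integers. -/
noncomputable def unit (A : Type u) [CommRing A] : P1.R0.{u} →+* A :=
  (Int.castRingHom A).comp ULift.ringEquiv.toRingHom

instance instSubsingletonHom (A : Type u) [CommRing A] : Subsingleton (P1.R0.{u} →+* A) := by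
  refine ⟨fun f g => RingHom.ext fun x => ?_⟩
  exact RingHom.congr_fun
    (RingHom.ext_int (f.comp ULift.ringEquiv.symm.toRingHom) (g.comp ULift.ringEquiv.symm.toRingHom)) x.down

abbrev Var (i : Fin (1 + 1)) : Type := {j : Fin (1 + 1) // j ≠ i}

instance instUniqueVar (i : Fin (1 + 1)) : Unique (Var i) where
  default := ⟨if i = 0 then 1 else 0, by fin_cases i <;> simp⟩
  uniq := fun ⟨j, hj⟩ => by
    apply Subtype.ext
    fin_cases i <;> fin_cases j <;> simp at hj ⊢

/-- The degree-zero part of the standard chart is a polynomial ring in one variable. -/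
noncomputable def chartEquiv (i : Fin (1 + 1)) :
    (P1.R0.{u})[X] ≃+* HomogeneousLocalization.Away P1.grading.{u} (P1.T i) :=
  (MvPolynomial.uniqueAlgEquiv P1.R0.{u} (Var i)).symm.toRingEquiv.trans
    (RingEquiv.ofBijective _ ((Groth.Agent.S9576.result 1 P1.R0.{u}).2 i))

attribute [irreducible] chartEquiv

/-- The standard open immersion into the absolute projective line. -/
noncomputable def awayChart (i : Fin (1 + 1)) :
    Spec (CommRingCat.of (HomogeneousLocalization.Away P1.grading.{u} (P1.T i))) ⟶
      CohB1.ProjSpace 1 P1.R0.{u} :=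
  Proj.awayι P1.grading (P1.T i) (P1.X_mem i) one_pos

lemma isOpenImmersion_awayChart (i : Fin (1 + 1)) : IsOpenImmersion (awayChart.{u} i) :=
  Proj.instIsOpenImmersionAwayι P1.grading (P1.T i) (P1.X_mem i) one_pos

instance (i : Fin (1 + 1)) : IsOpenImmersion (awayChart.{u} i) := isOpenImmersion_awayChart i

lemma opensRange_awayChart (i : Fin (1 + 1)) :
    (awayChart.{u} i).opensRange = Proj.basicOpen P1.grading (P1.T i) :=
  Proj.opensRange_awayι P1.grading (P1.T i) (P1.X_mem i) one_pos

/-- The standard chart of the absolute projective line. -/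
noncomputable def baseChart (i : Fin (1 + 1)) :
    Spec (CommRingCat.of (P1.R0.{u})[X]) ⟶ CohB1.ProjSpace 1 P1.R0.{u} :=
  Spec.map (chartEquiv i).symm.toCommRingCatIso.hom ≫ awayChart i

instance (i : Fin (1 + 1)) : IsOpenImmersion (baseChart.{u} i) := by
  unfold baseChart
  infer_instance

lemma opensRange_baseChart (i : Fin (1 + 1)) :
    (baseChart.{u} i).opensRange = Proj.basicOpen P1.grading (P1.T i) := by
  have h : Set.range (Spec.map (chartEquiv.{u} i).symm.toCommRingCatIso.hom ≫ awayChart i) =
      Set.range (awayChart.{u} i) := by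
    rw [Scheme.Hom.comp_base, TopCat.coe_comp, Set.range_comp,
      Function.Surjective.range_eq (Scheme.Hom.surjective _), Set.image_univ]
  exact (TopologicalSpace.Opens.ext h).trans (opensRange_awayChart i)

lemma iSup_opensRange_baseChart : ⨆ i, (baseChart.{u} i).opensRange = ⊤ := by
  simp only [opensRange_baseChart]
  exact (Groth.Agent.S9576.result 1 P1.R0.{u}).1

variable (A : Type u) [CommRing A]

/-- The standard chart of `P^1` over an affine base. -/
noncomputable def chart (i : Fin (1 + 1)) :
    Spec (CommRingCat.of A[X]) ⟶ CohB1.ProjSpaceOver 1 (Spec (CommRingCat.of A)) :=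
  pullback.lift (Spec.map (CommRingCat.ofHom (mapRingHom (unit A))) ≫ baseChart i)
    (Spec.map (CommRingCat.ofHom (C : A →+* A[X]))) (specULiftZIsTerminal.hom_ext _ _)

@[reassoc]
lemma chart_fst (i : Fin (1 + 1)) :
    chart A i ≫ pullback.fst (CohB1.ProjSpace.toSpec 1 P1.R0.{u})
      (specULiftZIsTerminal.from (Spec (CommRingCat.of A))) =
        Spec.map (CommRingCat.ofHom (mapRingHom (unit A))) ≫ baseChart i :=
  pullback.lift_fst _ _ _

@[reassoc]
lemma chart_toBase (i : Fin (1 + 1)) :
    chart A i ≫ CohB1.ProjSpaceOver.toBase 1 (Spec (CommRingCat.of A)) =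
      Spec.map (CommRingCat.ofHom (C : A →+* A[X])) :=
  pullback.lift_snd _ _ _

lemma isPullback_map_C_aux (R A : Type u) [CommRing R] [CommRing A] [Algebra R A] :
    IsPullback (Spec.map (CommRingCat.ofHom (mapRingHom (algebraMap R A))))
      (Spec.map (CommRingCat.ofHom (C : A →+* A[X])))
      (Spec.map (CommRingCat.ofHom (C : R →+* R[X])))
      (Spec.map (CommRingCat.ofHom (algebraMap R A))) := by
  let := Polynomial.algebra R A
  have : IsScalarTower R R[X] A[X] := .of_algebraMap_eq' (by ext r; simp [RingHom.algebraMap_toAlgebra])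
  exact isPullback_SpecMap_of_isPushout _ _ _ _
    (CommRingCat.isPushout_of_isPushout R R[X] A A[X])

lemma isPullback_map_C : IsPullback (Spec.map (CommRingCat.ofHom (mapRingHom (unit A))))
    (Spec.map (CommRingCat.ofHom (C : A →+* A[X])))
    (Spec.map (CommRingCat.ofHom (C : P1.R0.{u} →+* (P1.R0.{u})[X])))
    (specULiftZIsTerminal.from (Spec (CommRingCat.of A))) := by
  rw [specULiftZIsTerminal.hom_ext (specULiftZIsTerminal.from _)
    (Spec.map (CommRingCat.ofHom (unit A)))]
  exact @isPullback_map_C_aux P1.R0.{u} A _ _ (unit A).toAlgebra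

lemma isPullback_chart (i : Fin (1 + 1)) :
    IsPullback (chart A i) (Spec.map (CommRingCat.ofHom (mapRingHom (unit A))))
      (pullback.fst (CohB1.ProjSpace.toSpec 1 P1.R0.{u})
        (specULiftZIsTerminal.from (Spec (CommRingCat.of A)))) (baseChart i) := by
  refine IsPullback.of_right (h₁₂ := pullback.snd _ _) ?_ (chart_fst A i)
    (IsPullback.of_hasPullback _ _).flip
  erw [show chart A i ≫ pullback.snd _ _ = _ from chart_toBase A i,
    specULiftZIsTerminal.hom_ext (baseChart i ≫ CohB1.ProjSpace.toSpec 1 P1.R0.{u})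
      (Spec.map (CommRingCat.ofHom (C : P1.R0.{u} →+* (P1.R0.{u})[X])))]
  exact (isPullback_map_C A).flip

instance isOpenImmersion_chart (i : Fin (1 + 1)) : IsOpenImmersion (chart A i) :=
  MorphismProperty.of_isPullback (isPullback_chart A i).flip inferInstance

lemma mem_opensRange_chart_iff (i : Fin (1 + 1))
    (x : CohB1.ProjSpaceOver 1 (Spec (CommRingCat.of A))) :
    x ∈ (chart A i).opensRange ↔
      pullback.fst (CohB1.ProjSpace.toSpec 1 P1.R0.{u})
        (specULiftZIsTerminal.from (Spec (CommRingCat.of A))) x ∈ (baseChart i).opensRange := by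
  have e := congrArg (fun f : Spec (CommRingCat.of A[X]) ⟶ _ => Set.range f)
    (isPullback_chart A i).isoPullback_hom_fst
  show x ∈ Set.range (chart A i) ↔ _
  rw [← e]
  show x ∈ Set.range ((isPullback_chart A i).isoPullback.hom ≫ pullback.fst _ _) ↔ _
  rw [Scheme.Hom.comp_base, TopCat.coe_comp, Set.range_comp,
    Set.range_eq_univ.mpr (isPullback_chart A i).isoPullback.hom.surjective, Set.image_univ]
  rw [IsOpenImmersion.range_pullbackFst]
  rfl

lemma exists_chart (x : CohB1.ProjSpaceOver 1 (Spec (CommRingCat.of A))) :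
    ∃ (i : Fin (1 + 1)) (q : Spec (CommRingCat.of A[X])), chart A i q = x := by
  have h : pullback.fst (CohB1.ProjSpace.toSpec 1 P1.R0.{u})
      (specULiftZIsTerminal.from (Spec (CommRingCat.of A))) x ∈
        ⨆ i, (baseChart.{u} i).opensRange := by rw [iSup_opensRange_baseChart]; trivial
  obtain ⟨i, hi⟩ := TopologicalSpace.Opens.mem_iSup.mp h
  exact ⟨i, (mem_opensRange_chart_iff A i x).mpr hi⟩

end Groth.Agent.H98P1
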