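import Groth.Agent.H98P1.Chart

set_option autoImplicit false
universe u

open AlgebraicGeometry CategoryTheory CategoryTheory.Limits Polynomial

namespace Groth.Agent.H98P1

lemma isPrincipalIdealRing_of_isLocalization {R S : Type*} [CommRing R] [CommRing S] [Algebra R S]
    (M : Submonoid R) [IsLocalization M S] [IsPrincipalIdealRing R] : IsPrincipalIdealRing S := by
  refine ⟨fun J => ?_⟩
  obtain ⟨a, ha⟩ := (IsPrincipalIdealRing.principal (J.under R)).principal
  refine ⟨algebraMap R S a, ?_⟩
  rw [← IsLocalization.map_under M S J, show J.under R = Ideal.span {a} from ha, Ideal.map_span,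
    Set.image_singleton]

/-- The local rings of `A[X]` at primes over the generic point of the domain `A` are valuation
rings (they are local rings of `Frac(A)[X]`). -/
lemma valuationRing_of_comap_C_eq_bot {A : Type u} [CommRing A] [IsDomain A] (q : Ideal A[X])
    [q.IsPrime] (hq : q.comap (C : A →+* A[X]) = ⊥) (T : Type u) [CommRing T] [IsDomain T]
    [Algebra A[X] T] [IsLocalization.AtPrime T q] : ValuationRing T := by
  let K := FractionRing A
  let := Polynomial.algebra A K
  have hloc : IsLocalization ((nonZeroDivisors A).map (C : A →+* A[X])) K[X] :=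
    Polynomial.isLocalization (nonZeroDivisors A) K
  have hd : Disjoint (((nonZeroDivisors A).map (C : A →+* A[X]) : Submonoid A[X]) : Set A[X]) ↑q := by
    rw [Set.disjoint_left]
    rintro _ ⟨a, ha, rfl⟩ haq
    have : a ∈ q.comap (C : A →+* A[X]) := haq
    rw [hq, Ideal.mem_bot] at this
    exact nonZeroDivisors.ne_zero ha this
  let q' := q.map (algebraMap A[X] K[X])
  have hq' : q'.IsPrime := IsLocalization.isPrime_of_isPrime_disjoint _ K[X] q inferInstance hd
  have hc : q'.comap (algebraMap A[X] K[X]) = q :=
    IsLocalization.under_map_of_isPrime_disjoint _ K[X] inferInstance hd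
  have h2 : IsLocalization.AtPrime (Localization.AtPrime q') q := by
    have := IsLocalization.isLocalization_isLocalization_atPrime_isLocalization
      ((nonZeroDivisors A).map (C : A →+* A[X])) (Localization.AtPrime q') q'
    have e : q.primeCompl = (q'.comap (algebraMap A[X] K[X])).primeCompl := by
      ext x; show x ∉ q ↔ x ∉ q'.comap (algebraMap A[X] K[X]); rw [hc]
    unfold IsLocalization.AtPrime at this ⊢
    rwa [e]
  have : IsPrincipalIdealRing (Localization.AtPrime q') :=
    isPrincipalIdealRing_of_isLocalization (S := Localization.AtPrime q') q'.primeCompl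
  have : IsDomain (Localization.AtPrime q') :=
    IsLocalization.isDomain_localization q'.primeCompl_le_nonZeroDivisors
  have : ValuationRing (Localization.AtPrime q') := inferInstance
  let e := IsLocalization.algEquiv q.primeCompl (Localization.AtPrime q') T
  have : @PreValuationRing (Localization.AtPrime q') _ :=
    @ValuationRing.toPreValuationRing _ _ _ ‹ValuationRing (Localization.AtPrime q')›
  exact @Function.Surjective.valuationRing (Localization.AtPrime q') T _ this _ _ e.toRingHom e.surjective

variable (A : Type u) [CommRing A]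

lemma chartEquiv_X (i : Fin (1 + 1)) :
    chartEquiv.{u} i X = HomogeneousLocalization.Away.isLocalizationElem (P1.X_mem.{u} i)
      (P1.X_mem (default : Var i).1) := by
  unfold chartEquiv
  apply HomogeneousLocalization.val_injective
  simp [HomogeneousLocalization.Away.isLocalizationElem, HomogeneousLocalization.Away.val_mk,
    HomogeneousLocalization.val_mk]

lemma baseChart_preimage (i : Fin (1 + 1)) :
    baseChart.{u} i ⁻¹ᵁ Proj.basicOpen P1.grading (P1.T (default : Var i).1) =
      PrimeSpectrum.basicOpen (X : (P1.R0.{u})[X]) := by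
  have h := Proj.awayι_preimage_basicOpen P1.grading.{u} (P1.X_mem i) one_pos
    (P1.X_mem (default : Var i).1) one_pos
  rw [← chartEquiv_X i] at h
  apply TopologicalSpace.Opens.ext
  ext q
  have h' := SetLike.ext_iff.mp h (Spec.map (chartEquiv i).symm.toCommRingCatIso.hom q)
  refine h'.trans ?_
  show chartEquiv i X ∉ Ideal.comap ((chartEquiv i).symm : _ →+* (P1.R0.{u})[X]) q.asIdeal ↔ X ∉ q.asIdeal
  simp

/-- `P^1` over an affine integral scheme is integral. -/
theorem isIntegral [IsDomain A] : IsIntegral (CohB1.ProjSpaceOver 1 (Spec (CommRingCat.of A))) := by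
  have hirr : ∀ i, PreirreducibleSpace (chart A i).opensRange := fun i => by
    have : IsPreirreducible (Set.range (chart A i)) := by
      rw [← Set.image_univ]
      exact (PreirreducibleSpace.isPreirreducible_univ).image _ (chart A i).continuous.continuousOn
    exact Subtype.preirreducibleSpace this
  have hmeet : ∀ i, ¬ Disjoint (chart A i).opensRange (chart A (default : Var i).1).opensRange := by
    intro i hd
    let η : Spec (CommRingCat.of A[X]) := ⟨⊥, Ideal.isPrime_bot⟩
    have h1 : chart A i η ∈ (chart A (default : Var i).1).opensRange := by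
      rw [mem_opensRange_chart_iff, opensRange_baseChart]
      erw [← Scheme.Hom.comp_apply, chart_fst, Scheme.Hom.comp_apply]
      show Spec.map (CommRingCat.ofHom (mapRingHom (unit A))) η ∈
        baseChart.{u} i ⁻¹ᵁ Proj.basicOpen P1.grading (P1.T (default : Var i).1)
      rw [baseChart_preimage]
      show (X : (P1.R0.{u})[X]) ∉ Ideal.comap (mapRingHom (unit A)) ⊥
      simp
    exact Set.disjoint_left.mp (TopologicalSpace.Opens.coe_disjoint.mpr hd) ⟨η, rfl⟩ h1
  have : PreirreducibleSpace (CohB1.ProjSpaceOver 1 (Spec (CommRingCat.of A))) := by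
    refine PreirreducibleSpace.of_isOpenCover (U := fun i => (chart A i).opensRange) ?_ ?_ hirr
    · intro i j hij
      obtain rfl : j = (default : Var i).1 := (congrArg Subtype.val (Subsingleton.elim (default : Var i) ⟨j, hij.symm⟩)).symm
      exact hmeet i
    · exact TopologicalSpace.Opens.ext (Set.eq_univ_of_forall fun x => by
        obtain ⟨i, q, rfl⟩ := exists_chart A x
        simp only [TopologicalSpace.Opens.coe_iSup, Set.mem_iUnion]
        exact ⟨i, q, rfl⟩)
  have : Nonempty (CohB1.ProjSpaceOver 1 (Spec (CommRingCat.of A))) :=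
    ⟨chart A 0 ⟨⊥, Ideal.isPrime_bot⟩⟩
  have : IrreducibleSpace (CohB1.ProjSpaceOver 1 (Spec (CommRingCat.of A))) := ⟨inferInstance⟩
  have : ∀ x : CohB1.ProjSpaceOver 1 (Spec (CommRingCat.of A)),
      _root_.IsReduced ((CohB1.ProjSpaceOver 1 (Spec (CommRingCat.of A))).presheaf.stalk x) := by
    intro x
    obtain ⟨i, q, rfl⟩ := exists_chart A x
    exact isReduced_of_injective ((chart A i).stalkMap q).hom
      (ConcreteCategory.bijective_of_isIso ((chart A i).stalkMap q)).1
  have : IsReduced (CohB1.ProjSpaceOver 1 (Spec (CommRingCat.of A))) := isReduced_of_isReduced_stalk _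
  exact isIntegral_of_irreducibleSpace_of_isReduced _

/-- Local rings of `P^1_A` at points over the generic point are valuation rings. -/
theorem valuationRing_stalk [IsDomain A] (z : CohB1.ProjSpaceOver 1 (Spec (CommRingCat.of A)))
    (hz : (CohB1.ProjSpaceOver.toBase 1 (Spec (CommRingCat.of A)) z).asIdeal = ⊥)
    [IsDomain ((CohB1.ProjSpaceOver 1 (Spec (CommRingCat.of A))).presheaf.stalk z)] :
    ValuationRing ((CohB1.ProjSpaceOver 1 (Spec (CommRingCat.of A))).presheaf.stalk z) := by
  obtain ⟨i, q, rfl⟩ := exists_chart A z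
  rw [← Scheme.Hom.comp_apply, chart_toBase] at hz
  have hq : q.asIdeal.comap (C : A →+* A[X]) = ⊥ := hz
  have : IsDomain ((Spec (CommRingCat.of A[X])).presheaf.stalk q) :=
    (ConcreteCategory.bijective_of_isIso (inv ((chart A i).stalkMap q))).1.isDomain (inv ((chart A i).stalkMap q)).hom
  let : Algebra A[X] ((Spec (CommRingCat.of A[X])).presheaf.stalk q) :=
    StructureSheaf.stalkAlgebra _ q
  have : IsLocalization.AtPrime ((Spec (CommRingCat.of A[X])).presheaf.stalk q) q.asIdeal :=
    StructureSheaf.IsLocalization.to_stalk _ q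
  have := valuationRing_of_comap_C_eq_bot q.asIdeal hq ((Spec (CommRingCat.of A[X])).presheaf.stalk q)
  exact Function.Surjective.valuationRing (inv ((chart A i).stalkMap q)).hom
    (ConcreteCategory.bijective_of_isIso (inv ((chart A i).stalkMap q))).2

instance isProper_toBase (S : Scheme.{u}) : IsProper (CohB1.ProjSpaceOver.toBase 1 S) := by
  have : IsScalarTower P1.R0.{u} (CohB1.polyGrading 1 P1.R0.{u} 0)
      (MvPolynomial (Fin (1 + 1)) P1.R0.{u}) := .of_algebraMap_eq' (RingHom.ext fun r => rfl : (algebraMap P1.R0.{u} (MvPolynomial (Fin (1 + 1)) P1.R0.{u})) =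
      (algebraMap (CohB1.polyGrading 1 P1.R0.{u} 0) _).comp (algebraMap P1.R0.{u} (CohB1.polyGrading 1 P1.R0.{u} 0)))
  have : Algebra.FiniteType (CohB1.polyGrading 1 P1.R0.{u} 0) (MvPolynomial (Fin (1 + 1)) P1.R0.{u}) :=
    Algebra.FiniteType.of_restrictScalars_finiteType P1.R0.{u} _ _
  have : IsProper (CohB1.ProjSpace.toSpec 1 (ULift.{u} ℤ)) := by
    unfold CohB1.ProjSpace.toSpec
    have : IsIso (CommRingCat.ofHom (algebraMap (ULift.{u} ℤ) (CohB1.polyGrading 1 (ULift.{u} ℤ) 0))) := by
      rw [ConcreteCategory.isIso_iff_bijective]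
      refine ⟨fun a b h => ?_, fun ⟨p, hp⟩ => ?_⟩
      · have := congrArg Subtype.val h
        simpa using this
      · refine ⟨MvPolynomial.constantCoeff p, Subtype.ext ?_⟩
        have h0 := (MvPolynomial.mem_homogeneousSubmodule 0 p).mp hp
        have := MvPolynomial.totalDegree_eq_zero_iff_eq_C.mp (Nat.le_zero.mp h0.totalDegree_le)
        exact this.symm
    exact MorphismProperty.comp_mem _ _ _ (inferInstanceAs (IsProper (Proj.toSpecZero P1.grading.{u})))
      inferInstance
  exact inferInstanceAs (IsProper (pullback.snd _ _))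

end Groth.Agent.H98P1
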