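import Groth.Agent.H98P1.Spread

set_option autoImplicit false
universe u v

open AlgebraicGeometry CategoryTheory CategoryTheory.Limits

namespace Groth.Agent.H98P1

variable {k : Type u} [Field k] {A : Type u} [CommRing A] [IsDomain A]

/-- A morphism to a proper scheme on an open of the generic `P^1` spreads to `P^1` over an open of the
base, inducing the same map on any functor for which `P^1_W → W` is bijective. -/
lemma rel_of_link {X : Scheme.{u}} (f : X ⟶ Spec (CommRingCat.of k)) [IsProper f]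
    (Φ : (Over (Spec (CommRingCat.of k)))ᵒᵖ ⥤ Type v)
    (hΦ : ∀ (Y : Scheme.{u}) (g : Y ⟶ Spec (CommRingCat.of k)) [IsIntegral Y] [Smooth g]
      [IsSeparated g] [QuasiCompact g],
      Function.Bijective (Φ.map (Over.homMk (CohB1.ProjSpaceOver.toBase 1 Y) rfl :
        Over.mk (CohB1.ProjSpaceOver.toBase 1 Y ≫ g) ⟶ Over.mk g).op))
    (sA : Spec (CommRingCat.of A) ⟶ Spec (CommRingCat.of k)) [Smooth sA]
    (U : (CohB1.ProjSpaceOver 1 (Spec (CommRingCat.of (FractionRing A)))).Opens)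
    (h : (U : Scheme.{u}) ⟶ X)
    (a b : Spec (CommRingCat.of (FractionRing A)) ⟶ (U : Scheme.{u}))
    (hh : h ≫ f = U.ι ≫ CohB1.ProjSpaceOver.toBase 1 _ ≫ gK A ≫ sA)
    (ha : a ≫ U.ι ≫ CohB1.ProjSpaceOver.toBase 1 _ = 𝟙 _)
    (hb : b ≫ U.ι ≫ CohB1.ProjSpaceOver.toBase 1 _ = 𝟙 _) :
    Rel f Φ sA (a ≫ h) (b ≫ h) := by
  let Pj := CohB1.ProjSpaceOver 1 (Spec (CommRingCat.of (FractionRing A)))
  let T := CohB1.ProjSpaceOver 1 (Spec (CommRingCat.of A))
  let π : T ⟶ Spec (CommRingCat.of A) := CohB1.ProjSpaceOver.toBase 1 _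
  let π' : Pj ⟶ Spec (CommRingCat.of (FractionRing A)) := CohB1.ProjSpaceOver.toBase 1 _
  let j : Pj ⟶ T := P1.toP1 (gK A)
  have hj : IsPullback j π' π (gK A) := isPullback_toP1 (gK A)
  have : IsIntegral T := isIntegral A
  have : IsIntegral Pj := isIntegral (FractionRing A)
  have : IsProper π := isProper_toBase _
  have : Flat j := MorphismProperty.of_isPullback hj.flip (inferInstance : Flat (gK A))
  have : SurjectiveOnStalks j := MorphismProperty.of_isPullback hj.flip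
    (inferInstance : SurjectiveOnStalks (gK A))
  obtain ⟨pt⟩ : Nonempty (Spec (CommRingCat.of (FractionRing A))) := inferInstance
  have hUne : (U : Set Pj).Nonempty := ⟨(a pt).1, (a pt).2⟩
  let ζ : Pj := genericPoint Pj
  have hζ : ζ ∈ U := ((genericPoint_spec Pj).mem_open_set_iff U.2).mpr (by simpa using hUne)
  have : IsIso (j.stalkMap ζ) := isIso_stalkMap j ζ
  obtain ⟨D, hD, φ, hxD, hD1, hD2, hD3⟩ := exists_spread (π ≫ sA) f j ζ
    (U.fromSpecStalkOfMem ζ hζ ≫ h) (by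
      rw [Category.assoc, hh, Scheme.Opens.fromSpecStalkOfMem_ι_assoc, reassoc_of% hj.w])
  have hDne : (D : Set T).Nonempty := ⟨_, hxD⟩
  -- the maximal extension
  let : T.Over (Spec (CommRingCat.of k)) := ⟨π ≫ sA⟩
  let : X.Over (Spec (CommRingCat.of k)) := ⟨f⟩
  have : IsSeparated (X ↘ Spec (CommRingCat.of k)) := inferInstanceAs (IsSeparated f)
  have : X.IsSeparated := by
    rw [Scheme.isSeparated_iff, ← Limits.terminal.comp_from f]
    infer_instance
  let p0 : T.PartialMap X := ⟨D, D.2.dense hDne, hD⟩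
  have : p0.IsOver (Spec (CommRingCat.of k)) := ⟨hD1⟩
  let D2 : T.Opens := p0.toRationalMap.domain
  let g2 : (D2 : Scheme.{u}) ⟶ X := p0.toRationalMap.toPartialMap.hom
  have hg2 : g2 ≫ f = D2.ι ≫ π ≫ sA :=
    (inferInstance : p0.toRationalMap.toPartialMap.IsOver (Spec (CommRingCat.of k))).1
  have hle : D ≤ D2 := p0.le_domain_toRationalMap
  have hres : T.homOfLE hle ≫ g2 = hD := p0.toPartialMap_toRationalMap_restrict
  have hfib : ∀ z : T, (π z).asIdeal = ⊥ → z ∈ D2 := by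
    intro z hz
    have : ValuationRing (T.presheaf.stalk z) := valuationRing_stalk A z hz
    obtain ⟨U', hle', f', hz', hf', hres'⟩ := Crv77.exists_extend (π ≫ sA) f D hDne hD hD1 z
    let p1 : T.PartialMap X := ⟨U', U'.2.dense (hDne.mono hle'), f'⟩
    have heq : p1.toRationalMap = p0.toRationalMap := by
      rw [Scheme.PartialMap.toRationalMap_eq_iff]
      refine ⟨D, D.2.dense hDne, hle', le_rfl, ?_⟩
      simp [p1, p0, hres']
    show z ∈ p0.toRationalMap.domain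
    rw [← heq]
    exact p1.le_domain_toRationalMap hz'
  -- the generic fibre lies in `D2`
  have hjD : Set.range j ⊆ Set.range D2.ι := by
    rintro _ ⟨z, rfl⟩
    rw [Scheme.Opens.range_ι]
    refine hfib _ ?_
    rw [← Scheme.Hom.comp_apply, hj.w, Scheme.Hom.comp_apply]
    exact gK_apply_asIdeal _
  let jD : Pj ⟶ (D2 : Scheme.{u}) := IsOpenImmersion.lift D2.ι j hjD
  have hjD' : jD ≫ D2.ι = j := IsOpenImmersion.lift_fac _ _ _
  have hagree : U.ι ≫ jD ≫ g2 = h := by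
    have hdom : IsDominant (U.fromSpecStalkOfMem ζ hζ) := by
      constructor
      have e : Set.range (U.fromSpecStalkOfMem ζ hζ) = U.ι ⁻¹' Set.range (Pj.fromSpecStalk ζ) := by
        rw [← Scheme.Opens.fromSpecStalkOfMem_ι U ζ hζ, Scheme.Hom.comp_base, TopCat.coe_comp,
          Set.range_comp, Set.preimage_image_eq _ U.ι.isOpenEmbedding.injective]
      show Dense (Set.range _)
      rw [e]
      refine Dense.preimage (Dense.mono ?_ (dense_iff_closure_eq.mpr (genericPoint_spec Pj) :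
        Dense ({ζ} : Set Pj))) U.ι.isOpenEmbedding.isOpenMap
      rw [Set.singleton_subset_iff, Scheme.range_fromSpecStalk]
      exact specializes_rfl
    refine ext_of_isDominant_of_isSeparated f ?_ (U.fromSpecStalkOfMem ζ hζ) ?_
    · rw [Category.assoc, Category.assoc, hg2, reassoc_of% hjD', reassoc_of% hj.w, hh]
    · rw [← hD3, ← hres]
      have : φ ≫ T.homOfLE hle = U.fromSpecStalkOfMem ζ hζ ≫ U.ι ≫ jD := by
        rw [← cancel_mono D2.ι, Category.assoc, Scheme.homOfLE_ι, hD2, Category.assoc, Category.assoc,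
          hjD', Scheme.Opens.fromSpecStalkOfMem_ι_assoc]
      rw [reassoc_of% this]
  -- spread out the two sections
  obtain ⟨Wa, ga, aW, hga, haW, hga'⟩ := exists_spread_gK (𝟙 (Spec (CommRingCat.of A))) π
    (a ≫ U.ι ≫ j) (by rw [Category.assoc, Category.assoc, hj.w, reassoc_of% ha, Category.comp_id])
  obtain ⟨Wb, gb, bW, hgb, hbW, hgb'⟩ := exists_spread_gK (𝟙 (Spec (CommRingCat.of A))) π
    (b ≫ U.ι ≫ j) (by rw [Category.assoc, Category.assoc, hj.w, reassoc_of% hb, Category.comp_id])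
  rw [Category.comp_id] at haW hbW
  -- the open of the base
  let η : Spec (CommRingCat.of A) := gK A pt
  have hZ : IsClosed (π '' ((D2 : Set T)ᶜ)) := π.isClosedMap _ D2.2.isClosed_compl
  let W0 : (Spec (CommRingCat.of A)).Opens := Wa ⊓ Wb ⊓ ⟨(π '' ((D2 : Set T)ᶜ))ᶜ, hZ.isOpen_compl⟩
  have hη0 : η ∈ W0 := by
    refine ⟨⟨?_, ?_⟩, ?_⟩
    · show gK A pt ∈ Wa
      rw [← hga, Scheme.Hom.comp_apply]; exact (ga pt).2
    · show gK A pt ∈ Wb
      rw [← hgb, Scheme.Hom.comp_apply]; exact (gb pt).2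
    · rintro ⟨z, hz, hzη⟩
      exact hz (hfib z (by rw [hzη]; exact gK_apply_asIdeal pt))
  obtain ⟨_, ⟨_, ⟨r, rfl⟩, rfl⟩, hηW, hWW0⟩ :=
    PrimeSpectrum.isBasis_basic_opens.exists_subset_of_mem_open hη0 W0.2
  let W : (Spec (CommRingCat.of A)).Opens := PrimeSpectrum.basicOpen r
  have hWaff : IsAffineOpen W := IsAffineOpen.Spec_basicOpen r
  have : IsAffine W.toScheme := hWaff
  have hWne : Nonempty W.toScheme := ⟨⟨η, hηW⟩⟩
  have : IsIntegral W.toScheme := isIntegral_of_isOpenImmersion W.ι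
  have hgr : Set.range (gK A) ⊆ Set.range W.ι := by
    rintro _ ⟨y, rfl⟩
    rw [Scheme.Opens.range_ι, show gK A y = η from
      PrimeSpectrum.ext ((gK_apply_asIdeal y).trans (gK_apply_asIdeal pt).symm)]
    exact hηW
  let g' := IsOpenImmersion.lift W.ι (gK A) hgr
  have hg' : g' ≫ W.ι = gK A := IsOpenImmersion.lift_fac _ _ _
  -- the family over `W`
  let PW := CohB1.ProjSpaceOver 1 W.toScheme
  let πW : PW ⟶ W.toScheme := CohB1.ProjSpaceOver.toBase 1 _
  let iW : PW ⟶ T := P1.toP1 W.ι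
  have hiW : IsPullback iW πW π W.ι := isPullback_toP1 W.ι
  have hiD : Set.range iW ⊆ Set.range D2.ι := by
    rintro _ ⟨z, rfl⟩
    rw [Scheme.Opens.range_ι]
    by_contra hz
    refine (hWW0 (πW z).2).2 ⟨iW z, hz, ?_⟩
    rw [← Scheme.Hom.comp_apply, hiW.w, Scheme.Hom.comp_apply]; rfl
  let iD : PW ⟶ (D2 : Scheme.{u}) := IsOpenImmersion.lift D2.ι iW hiD
  have hiD' : iD ≫ D2.ι = iW := IsOpenImmersion.lift_fac _ _ _
  let G : PW ⟶ X := iD ≫ g2
  have hG : G ≫ f = πW ≫ W.ι ≫ sA := by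
    rw [Category.assoc, hg2, reassoc_of% hiD', reassoc_of% hiW.w]
  -- sections over `W`
  have hWa : W ≤ Wa := fun z hz => (hWW0 hz).1.1
  have hWb : W ≤ Wb := fun z hz => (hWW0 hz).1.2
  have hsec : ∀ (Wc : (Spec (CommRingCat.of A)).Opens) (hc : W ≤ Wc) (gc : _ ⟶ (Wc : Scheme.{u}))
      (cW : (Wc : Scheme.{u}) ⟶ T) (c : Spec (CommRingCat.of (FractionRing A)) ⟶ (U : Scheme.{u})),
      gc ≫ Wc.ι = gK A → cW ≫ π = Wc.ι → gc ≫ cW = c ≫ U.ι ≫ j →
      ∃ s : W.toScheme ⟶ PW, s ≫ πW = 𝟙 _ ∧ g' ≫ s ≫ G = c ≫ h := by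
    intro Wc hc gc cW c h1 h2 h3
    refine ⟨hiW.lift ((Spec (CommRingCat.of A)).homOfLE hc ≫ cW) (𝟙 _)
      (by rw [Category.assoc, h2, Scheme.homOfLE_ι, Category.id_comp]), hiW.lift_snd _ _ _, ?_⟩
    have e : g' ≫ (Spec (CommRingCat.of A)).homOfLE hc = gc := by
      rw [← cancel_mono Wc.ι, Category.assoc, Scheme.homOfLE_ι, hg', h1]
    have e2 : g' ≫ hiW.lift ((Spec (CommRingCat.of A)).homOfLE hc ≫ cW) (𝟙 _)
        (by rw [Category.assoc, h2, Scheme.homOfLE_ι, Category.id_comp]) ≫ iD = c ≫ U.ι ≫ jD := by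
      rw [← cancel_mono D2.ι]
      simp only [Category.assoc, hiD', hjD', hiW.lift_fst]
      rw [reassoc_of% e, h3]
    simp only [G, ← Category.assoc] at e2 ⊢
    rw [e2]
    simp only [Category.assoc, hagree]
  obtain ⟨sa, hsa, hsa'⟩ := hsec Wa hWa ga aW a hga haW hga'
  obtain ⟨sb, hsb, hsb'⟩ := hsec Wb hWb gb bW b hgb hbW hgb'
  have hp : (sa ≫ G) ≫ f = W.ι ≫ sA := by rw [Category.assoc, hG, reassoc_of% hsa]
  have hq : (sb ≫ G) ≫ f = W.ι ≫ sA := by rw [Category.assoc, hG, reassoc_of% hsb]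
  refine ⟨W, g', sa ≫ G, sb ≫ G, hp, hq, hg', hsa', hsb', ?_⟩
  have hbij := hΦ W.toScheme (W.ι ≫ sA)
  let OW : Over (Spec (CommRingCat.of k)) := Over.mk (W.ι ≫ sA)
  let OP : Over (Spec (CommRingCat.of k)) := Over.mk (πW ≫ W.ι ≫ sA)
  let pr : OP ⟶ OW := Over.homMk πW rfl
  let Sa : OW ⟶ OP := Over.homMk sa (by show sa ≫ πW ≫ W.ι ≫ sA = W.ι ≫ sA; rw [reassoc_of% hsa])
  let Sb : OW ⟶ OP := Over.homMk sb (by show sb ≫ πW ≫ W.ι ≫ sA = W.ι ≫ sA; rw [reassoc_of% hsb])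
  let Gm : OP ⟶ Over.mk f := Over.homMk G hG
  have hSa : Sa ≫ pr = 𝟙 OW := by ext; exact hsa
  have hSb : Sb ≫ pr = 𝟙 OW := by ext; exact hsb
  show Φ.map (Over.homMk (sa ≫ G) hp : OW ⟶ Over.mk f).op = Φ.map (Over.homMk (sb ≫ G) hq : OW ⟶ Over.mk f).op
  have hpa : (Over.homMk (sa ≫ G) hp : OW ⟶ Over.mk f) = Sa ≫ Gm := by ext; rfl
  have hpb : (Over.homMk (sb ≫ G) hq : OW ⟶ Over.mk f) = Sb ≫ Gm := by ext; rfl
  rw [hpa, hpb, op_comp, op_comp, Functor.map_comp, Functor.map_comp]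
  ext x
  obtain ⟨y, hy⟩ := hbij.2 (Φ.map Gm.op x)
  have hy' : Φ.map pr.op y = Φ.map Gm.op x := hy
  show Φ.map Sa.op (Φ.map Gm.op x) = Φ.map Sb.op (Φ.map Gm.op x)
  rw [← hy']
  have h1 := congrArg (fun m : OW ⟶ OW => Φ.map m.op y) hSa
  have h2 := congrArg (fun m : OW ⟶ OW => Φ.map m.op y) hSb
  simp only [op_comp, Functor.map_comp] at h1 h2
  exact h1.trans h2.symm

end Groth.Agent.H98P1
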