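import Groth.Agent.H98P1.Base
import Groth.Agent.Crv77.Extend

set_option autoImplicit false
universe u v

open AlgebraicGeometry CategoryTheory CategoryTheory.Limits

namespace Groth.Agent.H98P1

/-- Spreading out a morphism defined on the local scheme at `x`, seen through a map `g` inducing an
isomorphism of local rings. -/
lemma exists_spread {T T' Y S : Scheme.{u}} [IsIntegral T] (sT : T ⟶ S) (sY : Y ⟶ S)
    [LocallyOfFiniteType sY] (g : T' ⟶ T) (x : T') [IsIso (g.stalkMap x)]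
    (P : Spec (T'.presheaf.stalk x) ⟶ Y) (hP : P ≫ sY = T'.fromSpecStalk x ≫ g ≫ sT) :
    ∃ (D : T.Opens) (h : (D : Scheme.{u}) ⟶ Y) (φ : Spec (T'.presheaf.stalk x) ⟶ (D : Scheme.{u})),
      g x ∈ D ∧ h ≫ sY = D.ι ≫ sT ∧ φ ≫ D.ι = T'.fromSpecStalk x ≫ g ∧ φ ≫ h = P := by
  have hl : (Spec.map (inv (g.stalkMap x)) ≫ P) ≫ sY = T.fromSpecStalk (g x) ≫ sT := by
    rw [Category.assoc, hP, ← Scheme.SpecMap_stalkMap_fromSpecStalk_assoc, ← Spec.map_comp_assoc,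
      IsIso.hom_inv_id, Spec.map_id, Category.id_comp]
  let p := Scheme.PartialMap.ofFromSpecStalk sT sY (Spec.map (inv (g.stalkMap x)) ≫ P) hl
  have hx : g x ∈ p.domain := Scheme.PartialMap.mem_domain_ofFromSpecStalk sT sY _ hl
  refine ⟨p.domain, p.hom, Spec.map (g.stalkMap x) ≫ p.domain.fromSpecStalkOfMem _ hx, hx,
    Scheme.PartialMap.ofFromSpecStalk_comp sT sY _ hl, ?_, ?_⟩
  · rw [Category.assoc, Scheme.Opens.fromSpecStalkOfMem_ι, Scheme.SpecMap_stalkMap_fromSpecStalk]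
  · have h2 := Scheme.PartialMap.fromSpecStalkOfMem_ofFromSpecStalk sT sY _ hl
    simp only [Scheme.PartialMap.fromSpecStalkOfMem] at h2
    rw [Category.assoc, h2, ← Spec.map_comp_assoc, IsIso.inv_hom_id, Spec.map_id, Category.id_comp]

variable {A : Type u} [CommRing A] [IsDomain A]

/-- The generic point of `Spec A`. -/
noncomputable abbrev gK (A : Type u) [CommRing A] [IsDomain A] :
    Spec (CommRingCat.of (FractionRing A)) ⟶ Spec (CommRingCat.of A) :=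
  Spec.map (CommRingCat.ofHom (algebraMap A (FractionRing A)))

instance : IsPreimmersion (gK A) := IsPreimmersion.of_isLocalization (nonZeroDivisors A)

instance : Flat (gK A) :=
  (HasRingHomProperty.Spec_iff (P := @Flat)).mpr (RingHom.flat_algebraMap_iff.mpr
    (IsLocalization.flat (FractionRing A) (nonZeroDivisors A)))

lemma gK_apply_asIdeal (x : Spec (CommRingCat.of (FractionRing A))) : (gK A x).asIdeal = ⊥ := by
  have hx : x.asIdeal = ⊥ := (Ideal.eq_bot_or_top x.asIdeal).resolve_right x.2.ne_top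
  show Ideal.comap (algebraMap A (FractionRing A)) x.asIdeal = ⊥
  rw [hx, ← RingHom.ker_eq_comap_bot]
  exact (RingHom.injective_iff_ker_eq_bot _).mp (IsFractionRing.injective A (FractionRing A))

lemma dense_range_gK : Dense (Set.range (gK A)) := by
  obtain ⟨x⟩ : Nonempty (Spec (CommRingCat.of (FractionRing A))) := inferInstance
  have h : gK A x = (⟨⊥, Ideal.isPrime_bot⟩ : PrimeSpectrum A) :=
    PrimeSpectrum.ext (gK_apply_asIdeal x)
  intro y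
  refine closure_mono (s := {gK A x}) (Set.singleton_subset_iff.mpr (Set.mem_range_self x)) ?_
  rw [h]
  exact specializes_iff_mem_closure.mp ((PrimeSpectrum.le_iff_specializes (⟨⊥, Ideal.isPrime_bot⟩ : PrimeSpectrum A) y).mp bot_le)

lemma isDominant_of_comp_eq {W : (Spec (CommRingCat.of A)).Opens}
    {g' : Spec (CommRingCat.of (FractionRing A)) ⟶ (W : Scheme.{u})} (hg' : g' ≫ W.ι = gK A) :
    IsDominant g' := by
  constructor
  have e : Set.range g' = W.ι ⁻¹' Set.range (gK A) := by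
    rw [← hg', Scheme.Hom.comp_base, TopCat.coe_comp, Set.range_comp,
      Set.preimage_image_eq _ W.ι.isOpenEmbedding.injective]
  show Dense (Set.range g')
  rw [e]
  exact dense_range_gK.preimage W.ι.isOpenEmbedding.isOpenMap

lemma eq_of_comp_eq {Y S : Scheme.{u}} (sY : Y ⟶ S) [IsSeparated sY]
    (sA : Spec (CommRingCat.of A) ⟶ S) {W : (Spec (CommRingCat.of A)).Opens}
    {g' : Spec (CommRingCat.of (FractionRing A)) ⟶ (W : Scheme.{u})} (hg' : g' ≫ W.ι = gK A)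
    {p q : (W : Scheme.{u}) ⟶ Y} (hp : p ≫ sY = W.ι ≫ sA) (hq : q ≫ sY = W.ι ≫ sA)
    (h : g' ≫ p = g' ≫ q) : p = q := by
  have := isDominant_of_comp_eq hg'
  exact ext_of_isDominant_of_isSeparated sY (hp.trans hq.symm) g' h

/-- Spreading out a morphism on the generic point. -/
lemma exists_spread_gK {Y S : Scheme.{u}} (sA : Spec (CommRingCat.of A) ⟶ S) (sY : Y ⟶ S)
    [LocallyOfFiniteType sY] (P : Spec (CommRingCat.of (FractionRing A)) ⟶ Y)
    (hP : P ≫ sY = gK A ≫ sA) :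
    ∃ (W : (Spec (CommRingCat.of A)).Opens)
      (g' : Spec (CommRingCat.of (FractionRing A)) ⟶ (W : Scheme.{u})) (p : (W : Scheme.{u}) ⟶ Y),
      g' ≫ W.ι = gK A ∧ p ≫ sY = W.ι ≫ sA ∧ g' ≫ p = P := by
  let K := FractionRing A
  let x : Spec (CommRingCat.of K) := IsLocalRing.closedPoint K
  have : IsIso ((gK A).stalkMap x) := isIso_stalkMap _ x
  have : IsDomain (CommRingCat.of A) := ‹IsDomain A›
  obtain ⟨D, h, φ, hxD, h1, h2, h3⟩ := exists_spread sA sY (gK A) x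
    ((Spec (CommRingCat.of K)).fromSpecStalk x ≫ P) (by rw [Category.assoc, hP])
  have : Epi ((Spec (CommRingCat.of K)).fromSpecStalk x) := by
    have : IsIso ((Spec (CommRingCat.of K)).fromSpecStalk x) := by
      rw [← Spec_stalkClosedPointIso (R := CommRingCat.of K)]
      infer_instance
    infer_instance
  have hr : Set.range (gK A) ⊆ Set.range D.ι := by
    rintro _ ⟨y, rfl⟩
    rw [Scheme.Opens.range_ι, show gK A y = gK A x from
      PrimeSpectrum.ext ((gK_apply_asIdeal y).trans (gK_apply_asIdeal x).symm)]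
    exact hxD
  let g' := IsOpenImmersion.lift D.ι (gK A) hr
  have hg' : g' ≫ D.ι = gK A := IsOpenImmersion.lift_fac _ _ _
  refine ⟨D, g', h, hg', h1, ?_⟩
  have hφ : φ = (Spec (CommRingCat.of K)).fromSpecStalk x ≫ g' := by
    rw [← cancel_mono D.ι, h2, Category.assoc, hg']
  rw [hφ, Category.assoc] at h3
  exact (cancel_epi _).mp h3

variable {k : Type u} [Field k]

section Rel

variable {X : Scheme.{u}} (f : X ⟶ Spec (CommRingCat.of k))
  (Φ : (Over (Spec (CommRingCat.of k)))ᵒᵖ ⥤ Type v)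
  (sA : Spec (CommRingCat.of A) ⟶ Spec (CommRingCat.of k))

/-- Two points at the generic point extend to morphisms on an open which induce the same map on `Φ`. -/
def Rel (P Q : Spec (CommRingCat.of (FractionRing A)) ⟶ X) : Prop :=
  ∃ (W : (Spec (CommRingCat.of A)).Opens)
    (g' : Spec (CommRingCat.of (FractionRing A)) ⟶ (W : Scheme.{u}))
    (p q : (W : Scheme.{u}) ⟶ X) (hp : p ≫ f = W.ι ≫ sA) (hq : q ≫ f = W.ι ≫ sA),
    g' ≫ W.ι = gK A ∧ g' ≫ p = P ∧ g' ≫ q = Q ∧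
      Φ.map (Over.homMk p hp : Over.mk (W.ι ≫ sA) ⟶ Over.mk f).op =
        Φ.map (Over.homMk q hq : Over.mk (W.ι ≫ sA) ⟶ Over.mk f).op

variable {f Φ sA}

lemma Rel.refl [LocallyOfFiniteType f] {P : Spec (CommRingCat.of (FractionRing A)) ⟶ X}
    (hP : P ≫ f = gK A ≫ sA) : Rel f Φ sA P P := by
  obtain ⟨W, g', p, h1, h2, h3⟩ := exists_spread_gK sA f P hP
  exact ⟨W, g', p, p, h2, h2, h1, h3, h3, rfl⟩

lemma Rel.symm {P Q : Spec (CommRingCat.of (FractionRing A)) ⟶ X} (h : Rel f Φ sA P Q) :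
    Rel f Φ sA Q P := by
  obtain ⟨W, g', p, q, hp, hq, h1, h2, h3, h4⟩ := h
  exact ⟨W, g', q, p, hq, hp, h1, h3, h2, h4.symm⟩

lemma Rel.trans [IsSeparated f] {P Q R : Spec (CommRingCat.of (FractionRing A)) ⟶ X}
    (h : Rel f Φ sA P Q) (h' : Rel f Φ sA Q R) : Rel f Φ sA P R := by
  obtain ⟨W₁, g₁, p, q, hp, hq, h1, h2, h3, h4⟩ := h
  obtain ⟨W₂, g₂, q', r, hq', hr, h1', h2', h3', h4'⟩ := h'
  have hsub : Set.range (gK A) ⊆ Set.range (W₁ ⊓ W₂).ι := by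
    rintro _ ⟨y, rfl⟩
    rw [Scheme.Opens.range_ι]
    refine ⟨?_, ?_⟩
    · rw [← h1, Scheme.Hom.comp_apply]; exact (g₁ y).2
    · rw [← h1', Scheme.Hom.comp_apply]; exact (g₂ y).2
  let g' := IsOpenImmersion.lift (W₁ ⊓ W₂).ι (gK A) hsub
  have hg' : g' ≫ (W₁ ⊓ W₂).ι = gK A := IsOpenImmersion.lift_fac _ _ _
  let i₁ := (Spec (CommRingCat.of A)).homOfLE (inf_le_left : W₁ ⊓ W₂ ≤ W₁)
  let i₂ := (Spec (CommRingCat.of A)).homOfLE (inf_le_right : W₁ ⊓ W₂ ≤ W₂)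
  have e₁ : g' ≫ i₁ = g₁ := by
    rw [← cancel_mono W₁.ι, Category.assoc, Scheme.homOfLE_ι, hg', h1]
  have e₂ : g' ≫ i₂ = g₂ := by
    rw [← cancel_mono W₂.ι, Category.assoc, Scheme.homOfLE_ι, hg', h1']
  have hw₁ : ∀ {m : (W₁ : Scheme.{u}) ⟶ X}, m ≫ f = W₁.ι ≫ sA →
      (i₁ ≫ m) ≫ f = (W₁ ⊓ W₂).ι ≫ sA := fun hm => by
    rw [Category.assoc, hm, Scheme.homOfLE_ι_assoc]
  have hw₂ : ∀ {m : (W₂ : Scheme.{u}) ⟶ X}, m ≫ f = W₂.ι ≫ sA →
      (i₂ ≫ m) ≫ f = (W₁ ⊓ W₂).ι ≫ sA := fun hm => by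
    rw [Category.assoc, hm, Scheme.homOfLE_ι_assoc]
  have hqq : i₁ ≫ q = i₂ ≫ q' := eq_of_comp_eq f sA hg' (hw₁ hq) (hw₂ hq')
    (by rw [reassoc_of% e₁, reassoc_of% e₂, h3, h2'])
  refine ⟨W₁ ⊓ W₂, g', i₁ ≫ p, i₂ ≫ r, hw₁ hp, hw₂ hr, hg', by rw [reassoc_of% e₁, h2],
    by rw [reassoc_of% e₂, h3'], ?_⟩
  let I₁ : Over.mk ((W₁ ⊓ W₂).ι ≫ sA) ⟶ Over.mk (W₁.ι ≫ sA) :=
    Over.homMk i₁ (Scheme.homOfLE_ι_assoc _ _ _)
  let I₂ : Over.mk ((W₁ ⊓ W₂).ι ≫ sA) ⟶ Over.mk (W₂.ι ≫ sA) :=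
    Over.homMk i₂ (Scheme.homOfLE_ι_assoc _ _ _)
  have a₁ : ∀ (m : (W₁ : Scheme.{u}) ⟶ X) (hm : m ≫ f = W₁.ι ≫ sA),
      (Over.homMk (i₁ ≫ m) (hw₁ hm) : Over.mk ((W₁ ⊓ W₂).ι ≫ sA) ⟶ Over.mk f) =
        I₁ ≫ (Over.homMk m hm : Over.mk (W₁.ι ≫ sA) ⟶ Over.mk f) := fun m hm => by ext; simp [I₁]
  have a₂ : ∀ (m : (W₂ : Scheme.{u}) ⟶ X) (hm : m ≫ f = W₂.ι ≫ sA),
      (Over.homMk (i₂ ≫ m) (hw₂ hm) : Over.mk ((W₁ ⊓ W₂).ι ≫ sA) ⟶ Over.mk f) =
        I₂ ≫ (Over.homMk m hm : Over.mk (W₂.ι ≫ sA) ⟶ Over.mk f) := fun m hm => by ext; simp [I₂]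
  have hmid : I₁ ≫ (Over.homMk q hq : Over.mk (W₁.ι ≫ sA) ⟶ Over.mk f) = I₂ ≫ (Over.homMk q' hq' : Over.mk (W₂.ι ≫ sA) ⟶ Over.mk f) := by
    rw [← a₁, ← a₂]; ext; simpa using hqq
  rw [a₁ p hp, a₂ r hr, op_comp, op_comp, Functor.map_comp, Functor.map_comp, h4, ← h4',
    ← Functor.map_comp, ← Functor.map_comp, ← op_comp, ← op_comp, hmid]

end Rel

end Groth.Agent.H98P1
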